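import Mathlib
import Cfsg.Agent.Lib.Steiner.Tree

/-! Uniqueness of the Steiner system S(4,5,11) (generated certificate). -/

set_option autoImplicit false

namespace CfsgLib.Steiner

open Cfsg Finset

def T11 : List ℕ := [1924, 1858, 1832, 1809, 1744, 1698, 1673, 1633, 1612, 1588, 1562, 1543,
  1480, 1441, 1426, 1392, 1349, 1318, 1308, 1291, 1252, 1219, 1208, 1173,
  1166, 1130, 1113, 1110, 1075, 1069, 961, 944, 906, 868, 856, 803,
  790, 781, 744, 710, 677, 668, 659, 626, 597, 587, 569, 558,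
  482, 468, 428, 409, 391, 361, 339, 334, 314, 309, 241, 218,
  205, 182, 171, 124, 103, 31]

def p11 : Par := ⟨11, 3, 1, 15, 4, T11⟩

def L11_11 : List ℕ := [1744, 944, 1392, 1480, 1832, 744, 856, 1208, 1924, 868, 1252, 468,
  1588, 1612, 428, 1308, 668, 124, 1858, 1698, 482, 1426, 626, 906,
  1130, 1562, 314, 218, 710, 1318, 790, 1110, 182, 334, 1166, 558,
  961, 1441, 1633, 1809, 241, 1673, 1113, 569, 361, 409, 1349, 781,
  205, 677, 1173, 597, 309, 1069, 1219, 659, 339, 803, 1075, 1291,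
  587, 1543, 391, 171, 103, 31]
theorem P11_11 (h : p11.OK) : p11.P L11_11 :=
  (fun _ => p11.P_of_relabel _ T11 11584701642934304 11584701642934304 (by decide +kernel) p11.P_target) h

def L11_10 : List ℕ := [558, 961, 1441, 1633, 1809, 241, 1673, 1113, 569, 361, 409, 1349,
  781, 205, 677, 1173, 597, 309, 1069, 1219, 659, 339, 803, 1075,
  1291, 587, 1543, 391, 171, 103, 31]
theorem P11_10 (h : p11.OK) : p11.P L11_10 :=
  p11.P_of_chain h [(142, 1166), (78, 334), (54, 182), (86, 1110), (278, 790), (294, 1318),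
    (198, 710), (154, 218), (58, 314), (538, 1562), (106, 1130), (394, 906),
    (114, 626), (402, 1426), (226, 482), (674, 1698), (834, 1858), (60, 124),
    (156, 668), (284, 1308), (172, 428), (588, 1612), (564, 1588), (212, 468),
    (228, 1252), (356, 868), (900, 1924), (184, 1208), (344, 856), (232, 744),
    (808, 1832), (456, 1480), (368, 1392), (432, 944), (720, 1744)]
    _ L11_11 (by decide +kernel) (by decide +kernel) (P11_11 h)

def L11_13 : List ℕ := [1178, 122, 838, 1190, 1302, 566, 214, 654, 1102, 302, 961, 1441,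
  1633, 1809, 241, 1673, 1113, 569, 361, 409, 1349, 781, 205, 677,
  1173, 597, 309, 1069, 1219, 659, 339, 803, 1075, 1291, 587, 1543,
  391, 171, 103, 31]
theorem P11_13 (h : p11.OK) : p11.P L11_13 :=
  p11.P_of_relabel _ L11_10 5848587229562912 5848587229562912 (by decide +kernel) (P11_10 h)

def L11_12 : List ℕ := [302, 961, 1441, 1633, 1809, 241, 1673, 1113, 569, 361, 409, 1349,
  781, 205, 677, 1173, 597, 309, 1069, 1219, 659, 339, 803, 1075,
  1291, 587, 1543, 391, 171, 103, 31]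
theorem P11_12 (h : p11.OK) : p11.P L11_12 :=
  p11.P_of_chain h [(78, 1102), (142, 654), (86, 214), (54, 566), (278, 1302), (166, 1190),
    (326, 838), (58, 122), (154, 1178)]
    _ L11_13 (by decide +kernel) (by decide +kernel) (P11_13 h)

def L11_9 : List ℕ := [961, 1441, 1633, 1809, 241, 1673, 1113, 569, 361, 409, 1349, 781,
  205, 677, 1173, 597, 309, 1069, 1219, 659, 339, 803, 1075, 1291,
  587, 1543, 391, 171, 103, 31]
theorem P11_9 (h : p11.OK) : p11.P L11_9 :=
  p11.P_of_step h _ 46 [1, 2, 4, 8, 16, 32, 64, 128, 256, 512, 1024] [558, 302] (by decide +kernel) 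
    (List.forall_mem_cons.2 ⟨P11_10 h, (List.forall_mem_cons.2 ⟨P11_12 h, (List.forall_mem_nil _)⟩)⟩)

def L11_8 : List ℕ := [1069, 1219, 659, 339, 803, 1075, 1291, 587, 1543, 391, 171, 103,
  31]
theorem P11_8 (h : p11.OK) : p11.P L11_8 :=
  p11.P_of_chain h [(293, 309), (533, 597), (149, 1173), (165, 677), (141, 205), (269, 781),
    (325, 1349), (153, 409), (297, 361), (57, 569), (89, 1113), (649, 1673),
    (113, 241), (785, 1809), (609, 1633), (417, 1441), (449, 961)]
    _ L11_9 (by decide +kernel) (by decide +kernel) (P11_9 h)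

def L11_15 : List ℕ := [333, 557, 1219, 659, 339, 803, 1075, 1291, 587, 1543, 391, 171,
  103, 31]
theorem P11_15 (h : p11.OK) : p11.P L11_15 :=
  p11.P_of_relabel _ L11_8 9264799787616288 9264799787616288 (by decide +kernel) (P11_8 h)

def L11_14 : List ℕ := [557, 1219, 659, 339, 803, 1075, 1291, 587, 1543, 391, 171, 103,
  31]
theorem P11_14 (h : p11.OK) : p11.P L11_14 :=
  p11.P_of_chain h [(269, 333)]
    _ L11_15 (by decide +kernel) (by decide +kernel) (P11_15 h)

def L11_16 : List ℕ := [301, 1219, 659, 339, 803, 1075, 1291, 587, 1543, 391, 171, 103,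
  31]
theorem P11_16 (h : p11.OK) : p11.P L11_16 :=
  p11.P_of_relabel _ L11_14 6941568292456480 8168489084880928 (by decide +kernel) (P11_14 h)

def L11_7 : List ℕ := [1219, 659, 339, 803, 1075, 1291, 587, 1543, 391, 171, 103, 31]
theorem P11_7 (h : p11.OK) : p11.P L11_7 :=
  p11.P_of_step h _ 45 [1, 2, 4, 8, 16, 32, 64, 128, 256, 512, 1024] [1069, 557, 301] (by decide +kernel) 
    (List.forall_mem_cons.2 ⟨P11_8 h, (List.forall_mem_cons.2 ⟨P11_14 h, (List.forall_mem_cons.2 ⟨P11_16 h, (List.forall_mem_nil _)⟩)⟩)⟩)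

def L11_6 : List ℕ := [587, 1543, 391, 171, 103, 31]
theorem P11_6 (h : p11.OK) : p11.P L11_6 :=
  p11.P_of_chain h [(267, 1291), (1059, 1075), (291, 803), (275, 339), (147, 659), (195, 1219)]
    _ L11_7 (by decide +kernel) (by decide +kernel) (P11_7 h)

def L11_17 : List ℕ := [331, 1543, 391, 171, 103, 31]
theorem P11_17 (h : p11.OK) : p11.P L11_17 :=
  p11.P_of_step h _ 523 [1, 2, 4, 8, 16, 32, 64, 128, 256, 1536] [] (by decide +kernel) 
    (List.forall_mem_nil _)

def L11_5 : List ℕ := [1543, 391, 171, 103, 31]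
theorem P11_5 (h : p11.OK) : p11.P L11_5 :=
  p11.P_of_step h _ 75 [1, 2, 4, 8, 16, 32, 64, 128, 256, 1536] [587, 331] (by decide +kernel) 
    (List.forall_mem_cons.2 ⟨P11_6 h, (List.forall_mem_cons.2 ⟨P11_17 h, (List.forall_mem_nil _)⟩)⟩)

def L11_4 : List ℕ := [391, 171, 103, 31]
theorem P11_4 (h : p11.OK) : p11.P L11_4 :=
  p11.P_of_chain h [(519, 1543)]
    _ L11_5 (by decide +kernel) (by decide +kernel) (P11_5 h)

def L11_3 : List ℕ := [171, 103, 31]
theorem P11_3 (h : p11.OK) : p11.P L11_3 :=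
  p11.P_of_step h _ 135 [1, 2, 4, 8, 16, 32, 64, 128, 1792] [391] (by decide +kernel) 
    (List.forall_mem_cons.2 ⟨P11_4 h, (List.forall_mem_nil _)⟩)

def L11_2 : List ℕ := [103, 31]
theorem P11_2 (h : p11.OK) : p11.P L11_2 :=
  p11.P_of_step h _ 43 [1, 2, 4, 8, 16, 96, 1920] [171] (by decide +kernel) 
    (List.forall_mem_cons.2 ⟨P11_3 h, (List.forall_mem_nil _)⟩)

def L11_1 : List ℕ := [31]
theorem P11_1 (h : p11.OK) : p11.P L11_1 :=
  p11.P_of_step h _ 39 [1, 2, 4, 8, 16, 2016] [103] (by decide +kernel) 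
    (List.forall_mem_cons.2 ⟨P11_2 h, (List.forall_mem_nil _)⟩)

def L11_0 : List ℕ := []
theorem P11_0 (h : p11.OK) : p11.P L11_0 :=
  p11.P_of_step h _ 15 [1, 2, 4, 8, 2032] [31] (by decide +kernel) 
    (List.forall_mem_cons.2 ⟨P11_1 h, (List.forall_mem_nil _)⟩)

theorem ok11 : p11.OK := ⟨by decide, fun B hB b hb c hc hbc => by
  have h : #(b ∩ c) < 4 := inter_lt hB hb hc hbc
  show Nat.testBit 15 _ = true
  generalize #(b ∩ c) = m at h
  interval_cases m <;> rfl⟩

/-- every S(4,5,11) is the model `p11.std`, with prescribed images of the first 4 points -/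
theorem exists_equiv11 {α : Type*} [Fintype α] [DecidableEq α] (hα : Fintype.card α = 11)
    {B : Set (Finset α)} (hB : IsSteinerSystem 4 5 B) (x : Fin 4 ↪ α) :
    ∃ e : Fin 11 ≃ α, (∀ i : Fin 4, e (Fin.castLE (by decide) i) = x i) ∧
      (fun b => b.image e) '' p11.std = B :=
  p11.exists_equiv (P11_0 ok11) (by decide +kernel) (by decide +kernel) (by decide) hα hB x

theorem iso11 {α β : Type*} [Fintype α] [DecidableEq α] [Fintype β] [DecidableEq β]
    (hα : Fintype.card α = 11) (hβ : Fintype.card β = 11) {B : Set (Finset α)}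
    {B' : Set (Finset β)} (hB : IsSteinerSystem 4 5 B) (hB' : IsSteinerSystem 4 5 B') :
    SetSystemIso B B' := by
  obtain ⟨x⟩ : Nonempty (Fin 4 ↪ α) := Function.Embedding.nonempty_of_card_le (by simp [hα])
  obtain ⟨y⟩ : Nonempty (Fin 4 ↪ β) := Function.Embedding.nonempty_of_card_le (by simp [hβ])
  obtain ⟨e, -, he⟩ := exists_equiv11 hα hB x
  obtain ⟨e', -, he'⟩ := exists_equiv11 hβ hB' y
  exact iso_trans (iso_symm ⟨e, he⟩) ⟨e', he'⟩

end CfsgLib.Steiner
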