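import Mathlib
import Cfsg.Agent.Lib.Steiner.Tree

/-! Uniqueness of the Steiner system S(5,6,12) (generated certificate). -/

set_option autoImplicit false

namespace CfsgLib.Steiner

open Cfsg Finset

def T12 : List ℕ := [4032, 3888, 3849, 3846, 3752, 3730, 3717, 3684, 3665, 3658, 3619, 3612,
  3489, 3476, 3466, 3426, 3416, 3397, 3372, 3347, 3312, 3276, 3267, 3238,
  3225, 3177, 3158, 3130, 3125, 3087, 2978, 2961, 2956, 2920, 2900, 2883,
  2853, 2842, 2785, 2776, 2758, 2740, 2699, 2674, 2637, 2617, 2606, 2583,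
  2532, 2514, 2505, 2488, 2439, 2417, 2382, 2358, 2347, 2333, 2282, 2261,
  2227, 2221, 2206, 2172, 2151, 2139, 1956, 1944, 1923, 1889, 1874, 1868,
  1834, 1813, 1762, 1748, 1737, 1713, 1678, 1656, 1607, 1590, 1581, 1563,
  1512, 1489, 1478, 1458, 1421, 1396, 1355, 1337, 1319, 1310, 1253, 1242,
  1212, 1195, 1175, 1139, 1134, 1117, 1008, 970, 965, 937, 918, 870,
  857, 828, 819, 783, 748, 723, 698, 679, 669, 629, 619, 606,
  483, 476, 437, 430, 411, 378, 365, 343, 249, 246, 207, 63]

def p12 : Par := ⟨12, 4, 1, 31, 5, T12⟩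

def L12_11 : List ℕ := [4032, 3888, 3312, 1008, 3752, 2920, 1512, 1944, 3416, 2776, 2488, 1656,
  1956, 3684, 2532, 3476, 2900, 1748, 2740, 1396, 2956, 1868, 3276, 3372,
  748, 3612, 476, 828, 1212, 2172, 2978, 3426, 1762, 3730, 1874, 2514,
  1458, 2674, 3466, 3658, 970, 1834, 2282, 2842, 1242, 3130, 698, 378,
  3846, 2758, 1478, 3238, 870, 918, 3158, 1590, 2358, 246, 1678, 2382,
  2606, 430, 1134, 1310, 2206, 606, 3489, 1889, 2785, 2961, 3665, 1489,
  1713, 2417, 3849, 1737, 2505, 937, 3177, 3225, 857, 2617, 1337, 249,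
  3717, 3397, 965, 2853, 1253, 1813, 2261, 3125, 629, 437, 1421, 2637,
  1581, 2221, 365, 669, 2333, 1117, 1923, 2883, 3267, 3619, 483, 3347,
  2227, 1139, 723, 819, 2699, 1563, 411, 1355, 2347, 1195, 619, 2139,
  2439, 1319, 679, 1607, 2151, 2583, 1175, 3087, 783, 343, 207, 63]
theorem P12_11 (h : p12.OK) : p12.P L12_11 :=
  (fun _ => p12.P_of_relabel _ T12 407901468851537952 407901468851537952 (by decide +kernel) p12.P_target) h

def L12_10 : List ℕ := [1117, 1923, 2883, 3267, 3619, 483, 3347, 2227, 1139, 723, 819, 2699,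
  1563, 411, 1355, 2347, 1195, 619, 2139, 2439, 1319, 679, 1607, 2151,
  2583, 1175, 3087, 783, 343, 207, 63]
theorem P12_10 (h : p12.OK) : p12.P L12_10 :=
  p12.P_of_chain h [(285, 2333), (157, 669), (109, 365), (173, 2221), (557, 1581), (589, 2637),
    (397, 1421), (309, 437), (117, 629), (1077, 3125), (213, 2261), (789, 1813),
    (229, 1253), (805, 2853), (453, 965), (1349, 3397), (1669, 3717), (121, 249),
    (313, 1337), (569, 2617), (345, 857), (1177, 3225), (1129, 3177), (425, 937),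
    (457, 2505), (713, 1737), (1801, 3849), (369, 2417), (689, 1713), (465, 1489),
    (1617, 3665), (913, 2961), (737, 2785), (865, 1889), (1441, 3489), (94, 606),
    (158, 2206), (286, 1310), (110, 1134), (174, 430), (558, 2606), (334, 2382),
    (654, 1678), (118, 246), (310, 2358), (566, 1590), (1110, 3158), (406, 918),
    (358, 870), (1190, 3238), (454, 1478), (710, 2758), (1798, 3846), (122, 378),
    (186, 698), (1082, 3130), (218, 1242), (794, 2842), (234, 2282), (810, 1834),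
    (458, 970), (1610, 3658), (1418, 3466), (626, 2674), (434, 1458), (466, 2514),
    (850, 1874), (1682, 3730), (738, 1762), (1378, 3426), (930, 2978), (124, 2172),
    (188, 1212), (316, 828), (220, 476), (1564, 3612), (236, 748), (1324, 3372),
    (1228, 3276), (844, 1868), (908, 2956), (372, 1396), (692, 2740), (724, 1748),
    (852, 2900), (1428, 3476), (484, 2532), (1636, 3684), (932, 1956), (632, 1656),
    (440, 2488), (728, 2776), (1368, 3416), (920, 1944), (488, 1512), (872, 2920),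
    (1704, 3752), (496, 1008), (1264, 3312), (1840, 3888), (1984, 4032)]
    _ L12_11 (by decide +kernel) (by decide +kernel) (P12_11 h)

def L12_13 : List ℕ := [2357, 245, 1677, 2381, 2605, 1133, 429, 1309, 2205, 605, 1923, 2883,
  3267, 3619, 483, 3347, 2227, 1139, 723, 819, 2699, 1563, 411, 1355,
  2347, 1195, 619, 2139, 2439, 1319, 679, 1607, 2151, 2583, 1175, 3087,
  783, 343, 207, 63]
theorem P12_13 (h : p12.OK) : p12.P L12_13 :=
  p12.P_of_relabel _ L12_10 224345807623653408 224345807623653408 (by decide +kernel) (P12_10 h)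

def L12_12 : List ℕ := [605, 1923, 2883, 3267, 3619, 483, 3347, 2227, 1139, 723, 819, 2699,
  1563, 411, 1355, 2347, 1195, 619, 2139, 2439, 1319, 679, 1607, 2151,
  2583, 1175, 3087, 783, 343, 207, 63]
theorem P12_12 (h : p12.OK) : p12.P L12_12 :=
  p12.P_of_chain h [(157, 2205), (285, 1309), (173, 429), (109, 1133), (557, 2605), (333, 2381),
    (653, 1677), (117, 245), (309, 2357)]
    _ L12_13 (by decide +kernel) (by decide +kernel) (P12_13 h)

def L12_9 : List ℕ := [1923, 2883, 3267, 3619, 483, 3347, 2227, 1139, 723, 819, 2699, 1563,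
  411, 1355, 2347, 1195, 619, 2139, 2439, 1319, 679, 1607, 2151, 2583,
  1175, 3087, 783, 343, 207, 63]
theorem P12_9 (h : p12.OK) : p12.P L12_9 :=
  p12.P_of_step h _ 93 [1, 2, 4, 8, 16, 32, 64, 128, 256, 512, 1024, 2048] [1117, 605] (by decide +kernel) 
    (List.forall_mem_cons.2 ⟨P12_10 h, (List.forall_mem_cons.2 ⟨P12_12 h, (List.forall_mem_nil _)⟩)⟩)

def L12_8 : List ℕ := [2139, 2439, 1319, 679, 1607, 2151, 2583, 1175, 3087, 783, 343, 207,
  63]
theorem P12_8 (h : p12.OK) : p12.P L12_8 :=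
  p12.P_of_chain h [(587, 619), (1067, 1195), (299, 2347), (331, 1355), (283, 411), (539, 1563),
    (651, 2699), (307, 819), (595, 723), (115, 1139), (179, 2227), (1299, 3347),
    (227, 483), (1571, 3619), (1219, 3267), (835, 2883), (899, 1923)]
    _ L12_9 (by decide +kernel) (by decide +kernel) (P12_9 h)

def L12_15 : List ℕ := [667, 1115, 2439, 1319, 679, 1607, 2151, 2583, 1175, 3087, 783, 343,
  207, 63]
theorem P12_15 (h : p12.OK) : p12.P L12_15 :=
  p12.P_of_relabel _ L12_8 333664609481361440 333664609481361440 (by decide +kernel) (P12_8 h)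

def L12_14 : List ℕ := [1115, 2439, 1319, 679, 1607, 2151, 2583, 1175, 3087, 783, 343, 207,
  63]
theorem P12_14 (h : p12.OK) : p12.P L12_14 :=
  p12.P_of_chain h [(539, 667)]
    _ L12_15 (by decide +kernel) (by decide +kernel) (P12_15 h)

def L12_16 : List ℕ := [603, 2439, 1319, 679, 1607, 2151, 2583, 1175, 3087, 783, 343, 207,
  63]
theorem P12_16 (h : p12.OK) : p12.P L12_16 :=
  p12.P_of_relabel _ L12_14 259321201636247584 298582666993829920 (by decide +kernel) (P12_14 h)

def L12_7 : List ℕ := [2439, 1319, 679, 1607, 2151, 2583, 1175, 3087, 783, 343, 207, 63]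
theorem P12_7 (h : p12.OK) : p12.P L12_7 :=
  p12.P_of_step h _ 91 [1, 2, 4, 8, 16, 32, 64, 128, 256, 512, 1024, 2048] [2139, 1115, 603] (by decide +kernel) 
    (List.forall_mem_cons.2 ⟨P12_8 h, (List.forall_mem_cons.2 ⟨P12_14 h, (List.forall_mem_cons.2 ⟨P12_16 h, (List.forall_mem_nil _)⟩)⟩)⟩)

def L12_6 : List ℕ := [1175, 3087, 783, 343, 207, 63]
theorem P12_6 (h : p12.OK) : p12.P L12_6 :=
  p12.P_of_chain h [(535, 2583), (2119, 2151), (583, 1607), (551, 679), (295, 1319), (391, 2439)]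
    _ L12_7 (by decide +kernel) (by decide +kernel) (P12_7 h)

def L12_17 : List ℕ := [663, 3087, 783, 343, 207, 63]
theorem P12_17 (h : p12.OK) : p12.P L12_17 :=
  p12.P_of_step h _ 1047 [1, 2, 4, 8, 16, 32, 64, 128, 256, 512, 3072] [] (by decide +kernel) 
    (List.forall_mem_nil _)

def L12_5 : List ℕ := [3087, 783, 343, 207, 63]
theorem P12_5 (h : p12.OK) : p12.P L12_5 :=
  p12.P_of_step h _ 151 [1, 2, 4, 8, 16, 32, 64, 128, 256, 512, 3072] [1175, 663] (by decide +kernel) 
    (List.forall_mem_cons.2 ⟨P12_6 h, (List.forall_mem_cons.2 ⟨P12_17 h, (List.forall_mem_nil _)⟩)⟩)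

def L12_4 : List ℕ := [783, 343, 207, 63]
theorem P12_4 (h : p12.OK) : p12.P L12_4 :=
  p12.P_of_chain h [(1039, 3087)]
    _ L12_5 (by decide +kernel) (by decide +kernel) (P12_5 h)

def L12_3 : List ℕ := [343, 207, 63]
theorem P12_3 (h : p12.OK) : p12.P L12_3 :=
  p12.P_of_step h _ 271 [1, 2, 4, 8, 16, 32, 64, 128, 256, 3584] [783] (by decide +kernel) 
    (List.forall_mem_cons.2 ⟨P12_4 h, (List.forall_mem_nil _)⟩)

def L12_2 : List ℕ := [207, 63]
theorem P12_2 (h : p12.OK) : p12.P L12_2 :=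
  p12.P_of_step h _ 87 [1, 2, 4, 8, 16, 32, 192, 3840] [343] (by decide +kernel) 
    (List.forall_mem_cons.2 ⟨P12_3 h, (List.forall_mem_nil _)⟩)

def L12_1 : List ℕ := [63]
theorem P12_1 (h : p12.OK) : p12.P L12_1 :=
  p12.P_of_step h _ 79 [1, 2, 4, 8, 16, 32, 4032] [207] (by decide +kernel) 
    (List.forall_mem_cons.2 ⟨P12_2 h, (List.forall_mem_nil _)⟩)

def L12_0 : List ℕ := []
theorem P12_0 (h : p12.OK) : p12.P L12_0 :=
  p12.P_of_step h _ 31 [1, 2, 4, 8, 16, 4064] [63] (by decide +kernel) 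
    (List.forall_mem_cons.2 ⟨P12_1 h, (List.forall_mem_nil _)⟩)

theorem ok12 : p12.OK := ⟨by decide, fun B hB b hb c hc hbc => by
  have h : #(b ∩ c) < 5 := inter_lt hB hb hc hbc
  show Nat.testBit 31 _ = true
  generalize #(b ∩ c) = m at h
  interval_cases m <;> rfl⟩

/-- every S(5,6,12) is the model `p12.std`, with prescribed images of the first 5 points -/
theorem exists_equiv12 {α : Type*} [Fintype α] [DecidableEq α] (hα : Fintype.card α = 12)
    {B : Set (Finset α)} (hB : IsSteinerSystem 5 6 B) (x : Fin 5 ↪ α) :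
    ∃ e : Fin 12 ≃ α, (∀ i : Fin 5, e (Fin.castLE (by decide) i) = x i) ∧
      (fun b => b.image e) '' p12.std = B :=
  p12.exists_equiv (P12_0 ok12) (by decide +kernel) (by decide +kernel) (by decide) hα hB x

theorem iso12 {α β : Type*} [Fintype α] [DecidableEq α] [Fintype β] [DecidableEq β]
    (hα : Fintype.card α = 12) (hβ : Fintype.card β = 12) {B : Set (Finset α)}
    {B' : Set (Finset β)} (hB : IsSteinerSystem 5 6 B) (hB' : IsSteinerSystem 5 6 B') :
    SetSystemIso B B' := by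
  obtain ⟨x⟩ : Nonempty (Fin 5 ↪ α) := Function.Embedding.nonempty_of_card_le (by simp [hα])
  obtain ⟨y⟩ : Nonempty (Fin 5 ↪ β) := Function.Embedding.nonempty_of_card_le (by simp [hβ])
  obtain ⟨e, -, he⟩ := exists_equiv12 hα hB x
  obtain ⟨e', -, he'⟩ := exists_equiv12 hβ hB' y
  exact iso_trans (iso_symm ⟨e, he⟩) ⟨e', he'⟩

end CfsgLib.Steiner
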