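import Mathlib
import Cfsg.Agent.Lib.Steiner.Tree
import Cfsg.Agent.Lib.Steiner.S3622

/-! Uniqueness of the Steiner system S(3,6,22) (generated certificate). -/

set_option autoImplicit false

namespace CfsgLib.Steiner

open Cfsg Finset

def T22 : List ℕ := [3674432, 3465216, 3277836, 3211810, 3147921, 3014704, 2706432, 2654346, 2630149, 2424905, 2365056, 2361606,
  2302336, 2263616, 2248707, 2199572, 2131233, 2114328, 2113764, 2111528, 2106450, 1836035, 1720960, 1646616,
  1607716, 1513472, 1311316, 1311144, 1212690, 1187937, 1148096, 1130757, 1085961, 1070128, 1067082, 1060998,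
  1060608, 885504, 806924, 796864, 720966, 701440, 657673, 594081, 573521, 549154, 530962, 525928,
  525716, 426117, 410944, 401930, 344210, 336932, 299106, 298008, 281121, 274705, 245800, 198161,
  157716, 135972, 135384, 134306, 108547, 94784, 70922, 68236, 67952, 55680, 50694, 41648,
  41292, 25737, 7237, 963, 63]

def p22 : Par := ⟨22, 2, 3, 5, 3, T22⟩

def L22_13 : List ℕ := [3465216, 1513472, 701440, 2706432, 885504, 1060608, 1720960, 2365056, 2302336, 55680, 94784, 2263616,
  3674432, 410944, 796864, 1148096, 3014704, 1070128, 245800, 2111528, 1646616, 298008, 1607716, 336932,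
  157716, 2199572, 806924, 3277836, 1311144, 525928, 2114328, 135384, 135972, 2113764, 525716, 1311316,
  41648, 67952, 68236, 41292, 3211810, 549154, 1212690, 344210, 401930, 2654346, 530962, 70922,
  134306, 299106, 1067082, 2106450, 50694, 2361606, 1060998, 720966, 2131233, 1187937, 2424905, 1085961,
  2630149, 1130757, 2248707, 1836035, 198161, 274705, 573521, 281121, 594081, 3147921, 657673, 426117,
  108547, 25737, 7237, 963, 63]
theorem P22_13 (h : p22.OK) : p22.P L22_13 :=
  (fun _ => p22.P_of_relabel _ T22 269161954820553628205474420754464 634551168436267640626992649504800 (by decide +kernel) p22.P_target) h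

def L22_12 : List ℕ := [720966, 2131233, 1187937, 2424905, 1085961, 2630149, 1130757, 2248707, 1836035, 198161, 274705, 573521,
  281121, 594081, 3147921, 657673, 426117, 108547, 25737, 7237, 963, 63]
theorem P22_12 (h : p22.OK) : p22.P L22_12 :=
  p22.P_of_chain h [(134, 1060998), (262, 2361606), (518, 50694), (1090, 2106450), (2114, 1067082), (98, 299106),
    (3074, 134306), (1034, 70922), (2066, 530962), (138, 2654346), (522, 401930), (146, 344210),
    (274, 1212690), (290, 549154), (546, 3211810), (76, 41292), (140, 68236), (336, 67952),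
    (176, 41648), (84, 1311316), (148, 525716), (100, 2113764), (292, 135972), (88, 135384),
    (280, 2114328), (104, 525928), (168, 1311144), (1036, 3277836), (4108, 806924), (4116, 2199572),
    (2068, 157716), (1060, 336932), (2084, 1607716), (1048, 298008), (8216, 1646616), (2088, 2111528),
    (16424, 245800), (1072, 1070128), (131120, 3014704), (1216, 1148096), (2240, 796864), (1344, 410944),
    (4416, 3674432), (2624, 2263616), (4672, 94784), (2432, 55680), (8576, 2302336), (1664, 2365056),
    (17024, 1720960), (1792, 1060608), (33536, 885504), (19456, 2706432), (13312, 701440), (71680, 1513472),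
    (57344, 3465216)]
    _ L22_13 (by decide +kernel) (by decide +kernel) (P22_13 h)

def L22_14 : List ℕ := [3178566, 2131233, 1187937, 2424905, 1085961, 2630149, 1130757, 2248707, 1836035, 198161, 274705, 573521,
  281121, 594081, 3147921, 657673, 426117, 108547, 25737, 7237, 963, 63]
theorem P22_14 (h : p22.OK) : p22.P L22_14 :=
  p22.P_of_relabel _ L22_12 673937639596994386951243169892384 673937639596994386951243169892384 (by decide +kernel) (P22_12 h)

def L22_15 : List ℕ := [286790, 2131233, 1187937, 2424905, 1085961, 2630149, 1130757, 2248707, 1836035, 198161, 274705, 573521,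
  281121, 594081, 3147921, 657673, 426117, 108547, 25737, 7237, 963, 63]
theorem P22_15 (h : p22.OK) : p22.P L22_15 :=
  p22.P_of_relabel _ L22_12 871411316589560702665888963332128 871411316589560702665888963332128 (by decide +kernel) (P22_12 h)

def L22_11 : List ℕ := [2131233, 1187937, 2424905, 1085961, 2630149, 1130757, 2248707, 1836035, 198161, 274705, 573521, 281121,
  594081, 3147921, 657673, 426117, 108547, 25737, 7237, 963, 63]
theorem P22_11 (h : p22.OK) : p22.P L22_11 :=
  p22.P_of_step h _ 70 [1, 2, 4, 8, 16, 32, 64, 128, 256, 512, 1024, 2048,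
  4096, 8192, 16384, 32768, 65536, 131072, 262144, 524288, 1048576, 2097152] [720966, 3178566, 286790] (by decide +kernel) 
    (List.forall_mem_cons.2 ⟨P22_12 h, (List.forall_mem_cons.2 ⟨P22_14 h, (List.forall_mem_cons.2 ⟨P22_15 h, (List.forall_mem_nil _)⟩)⟩)⟩)

def L22_10 : List ℕ := [1836035, 198161, 274705, 573521, 281121, 594081, 3147921, 657673, 426117, 108547, 25737, 7237,
  963, 63]
theorem P22_10 (h : p22.OK) : p22.P L22_10 :=
  p22.P_of_chain h [(4099, 2248707), (16389, 1130757), (517, 2630149), (521, 1085961), (73, 2424905), (97, 1187937),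
    (289, 2131233)]
    _ L22_11 (by decide +kernel) (by decide +kernel) (P22_11 h)

def L22_9 : List ℕ := [198161, 274705, 573521, 281121, 594081, 3147921, 657673, 426117, 108547, 25737, 7237, 963,
  63]
theorem P22_9 (h : p22.OK) : p22.P L22_9 :=
  p22.P_of_step h _ 1027 [1, 2, 4, 8, 16, 32, 64, 128, 256, 512, 1024, 2048,
  4096, 8192, 16384, 32768, 65536, 131072, 262144, 524288, 3145728] [1836035] (by decide +kernel) 
    (List.forall_mem_cons.2 ⟨P22_10 h, (List.forall_mem_nil _)⟩)

def L22_8 : List ℕ := [3147921, 657673, 426117, 108547, 25737, 7237, 963, 63]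
theorem P22_8 (h : p22.OK) : p22.P L22_8 :=
  p22.P_of_chain h [(161, 594081), (2081, 281121), (32833, 573521), (4353, 274705), (529, 198161)]
    _ L22_9 (by decide +kernel) (by decide +kernel) (P22_9 h)

def L22_7 : List ℕ := [657673, 426117, 108547, 25737, 7237, 963, 63]
theorem P22_7 (h : p22.OK) : p22.P L22_7 :=
  p22.P_of_step h _ 2177 [1, 2, 4, 8, 48, 64, 128, 256, 512, 1024, 2048, 4096,
  8192, 16384, 32768, 65536, 131072, 262144, 524288, 3145728] [3147921] (by decide +kernel) 
    (List.forall_mem_cons.2 ⟨P22_8 h, (List.forall_mem_nil _)⟩)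

def L22_6 : List ℕ := [426117, 108547, 25737, 7237, 963, 63]
theorem P22_6 (h : p22.OK) : p22.P L22_6 :=
  p22.P_of_step h _ 2057 [1, 2, 4, 8, 48, 64, 128, 768, 1024, 2048, 4096, 8192,
  16384, 32768, 65536, 393216, 3670016] [657673] (by decide +kernel) 
    (List.forall_mem_cons.2 ⟨P22_7 h, (List.forall_mem_nil _)⟩)

def L22_5 : List ℕ := [108547, 25737, 7237, 963, 63]
theorem P22_5 (h : p22.OK) : p22.P L22_5 :=
  p22.P_of_step h _ 133 [1, 2, 4, 8, 48, 64, 128, 768, 1024, 2048, 4096, 8192,
  16384, 98304, 4063232] [426117] (by decide +kernel) 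
    (List.forall_mem_cons.2 ⟨P22_6 h, (List.forall_mem_nil _)⟩)

def L22_4 : List ℕ := [25737, 7237, 963, 63]
theorem P22_4 (h : p22.OK) : p22.P L22_4 :=
  p22.P_of_step h _ 2051 [1, 2, 4, 8, 48, 64, 128, 768, 1024, 6144, 24576, 4161536] [108547] (by decide +kernel) 
    (List.forall_mem_cons.2 ⟨P22_5 h, (List.forall_mem_nil _)⟩)

def L22_3 : List ℕ := [7237, 963, 63]
theorem P22_3 (h : p22.OK) : p22.P L22_3 :=
  p22.P_of_step h _ 137 [1, 2, 4, 56, 64, 896, 7168, 4186112] [25737] (by decide +kernel) 
    (List.forall_mem_cons.2 ⟨P22_4 h, (List.forall_mem_nil _)⟩)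

def L22_2 : List ℕ := [963, 63]
theorem P22_2 (h : p22.OK) : p22.P L22_2 :=
  p22.P_of_step h _ 69 [1, 2, 4, 56, 960, 4193280] [7237] (by decide +kernel) 
    (List.forall_mem_cons.2 ⟨P22_3 h, (List.forall_mem_nil _)⟩)

def L22_1 : List ℕ := [63]
theorem P22_1 (h : p22.OK) : p22.P L22_1 :=
  p22.P_of_step h _ 67 [1, 2, 4, 56, 4194240] [963] (by decide +kernel) 
    (List.forall_mem_cons.2 ⟨P22_2 h, (List.forall_mem_nil _)⟩)

def L22_0 : List ℕ := []
theorem P22_0 (h : p22.OK) : p22.P L22_0 :=
  p22.P_of_step h _ 7 [1, 2, 4, 4194296] [63] (by decide +kernel) 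
    (List.forall_mem_cons.2 ⟨P22_1 h, (List.forall_mem_nil _)⟩)

theorem ok22 : p22.OK := ⟨by decide, fun B hB b hb c hc hbc => by
  rcases inter_3622 (α := Fin p22.n) (Fintype.card_fin _) hB hc hb hbc with h | h <;>
    exact (congrArg (Nat.testBit p22.al) h).trans rfl⟩

/-- every S(3,6,22) is the model `p22.std`, with prescribed images of the first 3 points -/
theorem exists_equiv22 {α : Type*} [Fintype α] [DecidableEq α] (hα : Fintype.card α = 22)
    {B : Set (Finset α)} (hB : IsSteinerSystem 3 6 B) (x : Fin 3 ↪ α) :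
    ∃ e : Fin 22 ≃ α, (∀ i : Fin 3, e (Fin.castLE (by decide) i) = x i) ∧
      (fun b => b.image e) '' p22.std = B :=
  p22.exists_equiv (P22_0 ok22) (by decide +kernel) (by decide +kernel) (by decide) hα hB x

theorem iso22 {α β : Type*} [Fintype α] [DecidableEq α] [Fintype β] [DecidableEq β]
    (hα : Fintype.card α = 22) (hβ : Fintype.card β = 22) {B : Set (Finset α)}
    {B' : Set (Finset β)} (hB : IsSteinerSystem 3 6 B) (hB' : IsSteinerSystem 3 6 B') :
    SetSystemIso B B' := by
  obtain ⟨x⟩ : Nonempty (Fin 3 ↪ α) := Function.Embedding.nonempty_of_card_le (by simp [hα])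
  obtain ⟨y⟩ : Nonempty (Fin 3 ↪ β) := Function.Embedding.nonempty_of_card_le (by simp [hβ])
  obtain ⟨e, -, he⟩ := exists_equiv22 hα hB x
  obtain ⟨e', -, he'⟩ := exists_equiv22 hβ hB' y
  exact iso_trans (iso_symm ⟨e, he⟩) ⟨e', he'⟩

end CfsgLib.Steiner
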